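import Cfsg.Agent.H217.Odm.Real_m3
import Cfsg.Agent.H729.PairTool_m3
import Cfsg.Agent.H180.KMathieu
import Cfsg.Agent.MTwelveType.SylowModel
import Cfsg.Agent.BpSpor.CoThreeFive
import Cfsg.Agent.Prune
set_option linter.all false
prune_inst 0x7f00000000000000000000000000000000000000000000000000000000000000000000000000000000000000000000000000000000000000000000000000000000000000000000000000000000000000003fffffffffffffffffffffffffffbeffbdffffffff
open scoped Cfsg.Agent.FastGrp

/-!
# TEAM ODDM (S4785): the Mathieu group `M₁₂` (helper795)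
-/

set_option autoImplicit false

namespace Cfsg.Agent.H795.Odm

open Cfsg Subgroup Cfsg.Agent.OrdDiv Cfsg.Agent.H453.OddM Cfsg.Agent.H257.El Cfsg.Agent.H217.Odm
open Cfsg.Agent.J4Type.CocodeMask Cfsg.Agent.H180.KMathieu Cfsg.Agent.SporadicA.GolayPerm

universe u

/-- the order of the centralizer of an image -/
theorem card_cent_map {G H : Type*} [Group G] [Group H] (e : G ≃* H) (x : G) :
    Nat.card (centralizer ({x} : Set G)) = Nat.card (centralizer ({e x} : Set H)) := by
  have h2 : centralizer ({e x} : Set H) = (centralizer ({x} : Set G)).map e.toMonoidHom := by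
    ext y
    rw [mem_map_equiv, mem_centralizer_singleton_iff, mem_centralizer_singleton_iff]
    constructor
    · intro h
      apply e.injective
      rw [map_mul, map_mul, e.apply_symm_apply, h]
    · intro h
      have h3 := congrArg e h
      rwa [map_mul, map_mul, e.apply_symm_apply] at h3
  rw [h2]
  exact (card_map_of_injective e.injective).symm

theorem card_m12 : Nat.card Spor.M12 = 95040 := Cfsg.Agent.MTwelveType.SylowModel.card_M12

/-- tables of two involutions with product of order three -/
def tS : ℕ := 230597461170820594591133681248833936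
def tT : ℕ := 944317990156705413074054978873630828

theorem ok_S : (isPerm tS && isAut tS) = true := by decide +kernel
theorem ok_T : (isPerm tT && isAut tT) = true := by decide +kernel
theorem D_S : pimg tS D = D := by decide +kernel
theorem D_T : pimg tT D = D := by decide +kernel
theorem ord_S : ordOk tS 2 = true := by decide +kernel
theorem ord_T : ordOk tT 2 = true := by decide +kernel
theorem ord_ST : ordOk (J4Type.CocodeMask.pcomp tS tT) 3 = true := by decide +kernel

theorem sq_one {P : ℕ} (h : (isPerm P && isAut P) = true) (h1 : pimg P D = D) (h2 : ordOk P 2 = true) :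
    (⟨((J4Type.CocodeMask.mk P h : M24) : Equiv.Perm GolayPt), mem_M12 h h1⟩ : Spor.M12) ^ 2 = 1 := by
  apply Subtype.ext
  have h3 : (J4Type.CocodeMask.mk P h : M24) ^ 2 = 1 := by
    rw [← orderOf_tab (isTab_mk P h) h2]
    exact pow_orderOf_eq_one _
  have h4 : (((J4Type.CocodeMask.mk P h : M24) ^ 2 : M24) : Equiv.Perm GolayPt) = 1 := by
    rw [h3]; rfl
  exact h4

/-- a real element of order three -/
theorem real_three : RealP Spor.M12 3 := by
  refine ⟨_, ?_, IsReal.of_mul (sq_one ok_S D_S ord_S) (sq_one ok_T D_T ord_T)⟩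
  rw [← Subgroup.orderOf_coe]
  show orderOf (((J4Type.CocodeMask.mk tS ok_S * J4Type.CocodeMask.mk tT ok_T : M24)) : Equiv.Perm GolayPt) = 3
  rw [Subgroup.orderOf_coe]
  exact orderOf_tab ((isTab_mk tS ok_S).mul (isTab_mk tT ok_T)) ord_ST

/-- an element of order ten -/
theorem exists_ten : ∃ z : Spor.M12, orderOf z = 10 := by
  refine ⟨rep12 3, ?_⟩
  rw [← Subgroup.orderOf_coe]
  show orderOf ((J4Type.CocodeMask.mk (T12.getD 3 0) (T12_mk 3) : M24) : Equiv.Perm GolayPt) = 10
  rw [Subgroup.orderOf_coe]
  exact orderOf_tab (isTab_mk _ (T12_mk 3)) (by decide +kernel)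

theorem card_cent5 {x : Spor.M12} (hx : orderOf x = 5) :
    Nat.card (centralizer ({x} : Set Spor.M12)) = 10 := by
  have hfin : Finite Spor.M12 := Nat.finite_of_card_ne_zero (by rw [card_m12]; norm_num)
  obtain ⟨z, hz⟩ := exists_ten
  have hz2 : orderOf (z ^ 2) = 5 := by rw [orderOf_pow, hz]; norm_num
  have h1 := H729.PairBase.card_cent_of_one (S := Spor.M12) (r := 5) (by norm_num) (by rw [card_m12]; norm_num) hz2 hx
  have h2 : 10 ∣ Nat.card (centralizer ({z ^ 2} : Set Spor.M12)) := by
    rw [← hz]
    exact Subgroup.orderOf_dvd_natCard _ (mem_centralizer_singleton_iff.2 (by rw [← pow_succ, ← pow_succ']))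
  rw [← h1] at h2
  exact Nat.dvd_antisymm (CpAutCoThreeFive.card_cent_dvd hx) h2

theorem row (tab : OrderTable.{u}) (known : Known.{u}) {T : Type u} [Group T] (h : Spor.IsoM12 T) : Row T := by
  obtain ⟨e⟩ := h
  have hn : Nat.card T = 95040 := by rw [Nat.card_congr e.toEquiv, card_m12]
  have hfin : Finite T := Nat.finite_of_card_ne_zero (by rw [hn]; norm_num)
  have hc : ∀ x : T, orderOf x = 5 → Nat.card (centralizer ({x} : Set T)) = 5 * 2 := fun x hx => by
    rw [card_cent_map e, card_cent5 (by rw [MulEquiv.orderOf_eq, hx])]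
  have hN : ∀ x : T, orderOf x = 5 → Nat.card (normalizer ((zpowers x : Subgroup T) : Set T)) = 5 * (2 * 4) ∧
      (Even 4 → IsReal x) := fun x hx =>
    norm_of_cent (r := 5) (n := 19008) (c := 2) (e := 4) (by norm_num) (by rw [hn]) (by norm_num) hx (hc x hx)
      (by norm_num) (by norm_num)
  have h5 : RealP T 5 := by
    have := Fact.mk (show Nat.Prime 5 by norm_num)
    obtain ⟨x, hx⟩ := exists_prime_orderOf_dvd_card' (G := T) 5 (by rw [hn]; norm_num)
    exact ⟨x, hx, (hN x hx).2 (by decide)⟩
  have h3 : RealP T 3 := by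
    obtain ⟨x, hx, hr⟩ := real_three
    exact ⟨e.symm x, by rw [MulEquiv.orderOf_eq, hx], hr.map e.symm.toMonoidHom⟩
  refine row_of_two (l := [(2, 6), (3, 3), (5, 1), (11, 1)]) (r := 5) (nu := 8) (ss := [3]) tab known hn (by norm_num)
    h5 (fun x hx => (hN x hx).1) ?_ (by decide +kernel)
  intro s hs
  rw [List.mem_singleton] at hs
  subst hs
  refine ⟨by norm_num, h3, fun z hz => ?_⟩
  have hz3 : orderOf (z ^ 3) = 5 := by rw [orderOf_pow, hz]; norm_num
  have h1 := Subgroup.orderOf_dvd_natCard (centralizer ({z ^ 3} : Set T)) (x := z)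
    (mem_centralizer_singleton_iff.2 (by rw [← pow_succ, ← pow_succ']))
  rw [hc _ hz3, hz] at h1
  norm_num at h1

end Cfsg.Agent.H795.Odm
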